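import Mathlib.RingTheory.Filtration
import Mathlib.RingTheory.Flat.Tensor
import Mathlib.RingTheory.TensorProduct.Finite
import Mathlib.RingTheory.RingHom.Flat

/-! A local homomorphism of noetherian local rings which is bijective modulo all powers of the
maximal ideals is flat. -/

set_option autoImplicit false
universe u

open IsLocalRing TensorProduct

namespace Groth.Agent.MonoEndo

variable {R S : Type u} [CommRing R] [CommRing S] [Algebra R S]

/-- If `S` is generated by `R` modulo `J`, every tensor is pure modulo `J`. -/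
theorem tmul_one_mod (J : Ideal S) (hsurj : ∀ s : S, ∃ r : R, s - algebraMap R S r ∈ J)
    {M : Type u} [AddCommGroup M] [Module R M] (w : S ⊗[R] M) :
    ∃ x : M, w - (1 : S) ⊗ₜ[R] x ∈ J • (⊤ : Submodule S (S ⊗[R] M)) := by
  induction w using TensorProduct.induction_on with
  | zero => exact ⟨0, by simp⟩
  | tmul s x =>
    obtain ⟨r, hr⟩ := hsurj s
    refine ⟨r • x, ?_⟩
    have e : s ⊗ₜ[R] x - (1 : S) ⊗ₜ[R] (r • x) = (s - algebraMap R S r) • ((1 : S) ⊗ₜ[R] x) := by
      rw [TensorProduct.smul_tmul', TensorProduct.tmul_smul, TensorProduct.smul_tmul',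
        ← TensorProduct.sub_tmul, smul_eq_mul, _root_.mul_one, Algebra.smul_def, _root_.mul_one]
    rw [e]
    exact Submodule.smul_mem_smul hr Submodule.mem_top
  | add a b ha hb =>
    obtain ⟨x, hx⟩ := ha
    obtain ⟨y, hy⟩ := hb
    refine ⟨x + y, ?_⟩
    rw [TensorProduct.tmul_add, add_sub_add_comm]
    exact add_mem hx hy

/-- Linear maps into `S` send `J • ⊤` into `J`. -/
theorem map_mem_of_mem_smul (J : Ideal S) {N : Type u} [AddCommGroup N] [Module S N] (ψ : N →ₗ[S] S)
    {w : N} (hw : w ∈ J • (⊤ : Submodule S N)) : ψ w ∈ J := by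
  refine Submodule.smul_induction_on hw (fun a ha y _ => ?_) (fun a b ha hb => ?_)
  · rw [map_smul, smul_eq_mul]
    exact J.mul_mem_right _ ha
  · rw [map_add]
    exact J.add_mem ha hb

/-- `1 ⊗ x` lies in `J • ⊤` when `x` lies in `K • ⊤` and `K` maps into `J`. -/
theorem tmul_mem_of_mem_smul (J : Ideal S) (K : Ideal R) (h : ∀ a ∈ K, algebraMap R S a ∈ J)
    {M : Type u} [AddCommGroup M] [Module R M] {x : M} (hx : x ∈ K • (⊤ : Submodule R M)) :
    (1 : S) ⊗ₜ[R] x ∈ J • (⊤ : Submodule S (S ⊗[R] M)) := by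
  refine Submodule.smul_induction_on hx (fun a ha y _ => ?_) (fun a b ha hb => ?_)
  · rw [TensorProduct.tmul_smul, ← algebraMap_smul S a ((1 : S) ⊗ₜ[R] y)]
    exact Submodule.smul_mem_smul (h a ha) Submodule.mem_top
  · rw [TensorProduct.tmul_add]
    exact add_mem ha hb

variable [IsLocalRing R] [IsLocalRing S] [IsNoetherianRing R] [IsNoetherianRing S]

theorem injective_lTensor_of_bijective_quotient_pow [IsLocalHom (algebraMap R S)]
    (hsurj : ∀ (k : ℕ) (s : S), ∃ r : R, s - algebraMap R S r ∈ maximalIdeal S ^ k)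
    (hinj : ∀ k : ℕ, (maximalIdeal S ^ k).comap (algebraMap R S) ≤ maximalIdeal R ^ k)
    (I : Ideal R) (ψ : S ⊗[R] I →ₗ[S] S)
    (hψ : ∀ x : I, ψ ((1 : S) ⊗ₜ[R] x) = algebraMap R S x) : Function.Injective ψ := by
  rw [injective_iff_map_eq_zero]
  intro z hz
  haveI : Module.Finite R I := Module.IsNoetherian.finite R I
  obtain ⟨c, hc⟩ := Ideal.exists_pow_inf_eq_pow_smul (maximalIdeal R) (I : Submodule R R)
  have hmap : ∀ (k : ℕ) (a : R), a ∈ maximalIdeal R ^ k → algebraMap R S a ∈ maximalIdeal S ^ k :=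
    fun k a ha => by
      have h1 : (maximalIdeal R).map (algebraMap R S) ≤ maximalIdeal S :=
        Ideal.map_le_iff_le_comap.2 fun b hb => map_nonunit (algebraMap R S) b hb
      have h2 := Ideal.mem_map_of_mem (algebraMap R S) ha
      rw [Ideal.map_pow] at h2
      exact Ideal.pow_right_mono h1 k h2
  have key : ∀ k : ℕ, z ∈ (maximalIdeal S ^ k) • (⊤ : Submodule S (S ⊗[R] I)) := by
    intro k
    obtain ⟨x, hx⟩ := tmul_one_mod (maximalIdeal S ^ (k + c)) (hsurj (k + c)) z
    have h1 := map_mem_of_mem_smul _ ψ hx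
    rw [map_sub, hz, zero_sub, neg_mem_iff, hψ] at h1
    have h5 : (x : R) ∈ (maximalIdeal R ^ (k + c)) • (⊤ : Submodule R R) ⊓ (I : Submodule R R) := by
      refine ⟨?_, x.2⟩
      rw [smul_eq_mul, ← Ideal.one_eq_top, _root_.mul_one]
      exact hinj _ h1
    rw [hc (k + c) (by omega), Nat.add_sub_cancel] at h5
    have h6 : x ∈ (maximalIdeal R ^ k) • (⊤ : Submodule R I) := by
      have h7 : (Submodule.subtype I) x ∈
          Submodule.map (Submodule.subtype I) ((maximalIdeal R ^ k) • (⊤ : Submodule R I)) := by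
        rw [Submodule.map_smul'', Submodule.map_subtype_top]
        exact Submodule.smul_mono le_rfl inf_le_right h5
      obtain ⟨y, hy, hxy⟩ := Submodule.mem_map.1 h7
      rwa [Submodule.injective_subtype _ hxy] at hy
    have hle : (maximalIdeal S ^ (k + c)) • (⊤ : Submodule S (S ⊗[R] I)) ≤
        (maximalIdeal S ^ k) • ⊤ := Submodule.smul_mono (Ideal.pow_le_pow_right (by omega)) le_rfl
    have := add_mem (hle hx) (tmul_mem_of_mem_smul (M := I) _ _ (hmap k) h6)
    rwa [sub_add_cancel] at this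
  have h0 := Ideal.iInf_pow_smul_eq_bot_of_isLocalRing (M := S ⊗[R] I) (maximalIdeal S)
    (maximalIdeal.isMaximal S).ne_top
  rw [← Submodule.mem_bot S, ← h0]
  exact (Submodule.mem_iInf _).2 key

omit [Algebra R S] in
theorem flat_of_bijective_quotient_pow (f : R →+* S) [IsLocalHom f]
    (hsurj : ∀ (k : ℕ) (s : S), ∃ r : R, s - f r ∈ maximalIdeal S ^ k)
    (hinj : ∀ k : ℕ, (maximalIdeal S ^ k).comap f ≤ maximalIdeal R ^ k) : f.Flat := by
  algebraize [f]
  haveI : IsLocalHom (algebraMap R S) := ‹IsLocalHom f›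
  show Module.Flat R S
  rw [Module.Flat.iff_lTensor_injective']
  intro I
  have h := injective_lTensor_of_bijective_quotient_pow (R := R) (S := S) hsurj hinj I
    ((AlgebraTensorModule.rid R S S).toLinearMap.comp
      (AlgebraTensorModule.map (LinearMap.id : S →ₗ[S] S) (Submodule.subtype I)))
    (fun x => by simp [Algebra.smul_def])
  intro a b hab
  exact h (congrArg (TensorProduct.rid R S) hab)

end Groth.Agent.MonoEndo
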