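import Groth.Agent.MonoEndo.Flat
import Groth.Agent.ZetaLib.SchemeCount
import Mathlib

/-! A monomorphic endomorphism of a scheme of finite type over `ℤ` is an isomorphism. -/

set_option autoImplicit false
set_option linter.style.haveILetI false
universe u

open CategoryTheory Limits AlgebraicGeometry IsLocalRing

namespace Groth.Agent.MonoEndo

theorem finite_hom_of_finiteType_int (A B : Type u) [CommRing A] [CommRing B] [Finite B]
    [Algebra.FiniteType ℤ A] : Finite (A →+* B) := by
  obtain ⟨s, hs⟩ := Algebra.FiniteType.out (R := ℤ) (A := A)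
  refine Finite.of_injective (fun φ : A →+* B => fun a : s => φ a.1) fun φ ψ h => ?_
  have h2 : φ.toIntAlgHom = ψ.toIntAlgHom := by
    refine AlgHom.ext_of_adjoin_eq_top hs fun a ha => ?_
    exact congrFun h ⟨a, ha⟩
  exact RingHom.ext fun a => AlgHom.congr_fun h2 a

instance : IsNoetherianRing (ULift.{u} ℤ) := isNoetherianRing_of_ringEquiv ℤ ULift.ringEquiv.symm

instance : IsJacobsonRing (ULift.{u} ℤ) :=
  haveI := ZetaLib.isJacobsonRing_int
  isJacobsonRing_of_surjective (R := ℤ)
    ⟨(ULift.ringEquiv (R := ℤ)).symm.toRingHom, (ULift.ringEquiv (R := ℤ)).symm.surjective⟩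

theorem flat_fromSpecStalk {X : Scheme.{u}} (x : X) : Flat (X.fromSpecStalk x) := by
  obtain ⟨U, hU, hxU, -⟩ := exists_isAffineOpen_mem_and_subset (show x ∈ (⊤ : X.Opens) from trivial)
  rw [← hU.fromSpecStalk_eq_fromSpecStalk hxU, IsAffineOpen.fromSpecStalk]
  have : Flat (Spec.map (X.presheaf.germ U x hxU)) := by
    rw [HasRingHomProperty.Spec_iff (P := @Flat)]
    let : Algebra Γ(X, U) (X.presheaf.stalk x) := (X.presheaf.germ U x hxU).hom.toAlgebra
    have := hU.isLocalization_stalk ⟨x, hxU⟩
    exact IsLocalization.flat (X.presheaf.stalk x) (hU.primeIdealOf ⟨x, hxU⟩).asIdeal.primeCompl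
  infer_instance

variable {X : Scheme.{u}} (t : X ⟶ Spec (CommRingCat.of (ULift.{u} ℤ))) [LocallyOfFiniteType t]
  [QuasiCompact t]

include t in
/-- A scheme of finite type over `ℤ` has finitely many points in a finite local ring. -/
theorem finite_points (B : CommRingCat.{u}) [IsLocalRing B] [Finite B] : Finite (Spec B ⟶ X) := by
  obtain ⟨n, A, j, hj, hA, -, hcov⟩ := ZetaLib.exists_affine_cover t
  haveI : ∀ i, IsOpenImmersion (j i) := hj
  haveI : ∀ i, Finite ((A i : Type u) →+* B) := fun i => finite_hom_of_finiteType_int (A i) B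
  refine Finite.of_surjective (fun p : Σ i, ((A i : Type u) →+* B) =>
    Spec.map (CommRingCat.ofHom p.2) ≫ j p.1) fun g => ?_
  obtain ⟨i, hi⟩ := hcov (g (closedPoint B))
  have hsub : Set.range g ⊆ Set.range (j i) := by
    rintro _ ⟨y, rfl⟩
    exact ((IsLocalRing.specializes_closedPoint y).map g.continuous).mem_open
      (j i).isOpenEmbedding.isOpen_range hi
  refine ⟨⟨i, (Spec.preimage (IsOpenImmersion.lift (j i) g hsub)).hom⟩, ?_⟩
  simp only [CommRingCat.ofHom_hom, Spec.map_preimage, IsOpenImmersion.lift_fac]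

/-- A morphism from a local scheme factors through the local ring at the image of the closed point. -/
theorem exists_local_hom {B : CommRingCat.{u}} [IsLocalRing B] (P : Spec B ⟶ X) {y : X}
    (hy : P (closedPoint B) = y) :
    ∃ φ : X.presheaf.stalk y ⟶ B, IsLocalHom φ.hom ∧ Spec.map φ ≫ X.fromSpecStalk y = P := by
  subst hy
  exact ⟨Scheme.stalkClosedPointTo P, inferInstance, Scheme.Spec_stalkClosedPointTo_fromSpecStalk P⟩

variable (g : X ⟶ X) [Mono g]

include t in
theorem exists_lift (B : CommRingCat.{u}) [IsLocalRing B] [Finite B] (P : Spec B ⟶ X) :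
    ∃ Q : Spec B ⟶ X, Q ≫ g = P :=
  haveI := finite_points t B
  (Finite.injective_iff_surjective (f := fun Q : Spec B ⟶ X => Q ≫ g)).1
    (fun a b h => (cancel_mono g).1 h) P

theorem injective_base : Function.Injective g := fun a b h => by
  haveI : IsIso (pullback.diagonal g) := (pullback.isIso_diagonal_iff g).2 ‹Mono g›
  haveI : UniversallyInjective g := (UniversallyInjective.iff_diagonal g).2 inferInstance
  exact (Scheme.Hom.injective g) h

include t in
/-- At a closed point a monomorphic endomorphism is bijective modulo powers of the maximal ideal. -/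
theorem bijective_quotient_pow (y : X) (hy : IsClosed ({g y} : Set X)) (k : ℕ) :
    (∀ s, ∃ r, s - (g.stalkMap y).hom r ∈ maximalIdeal (X.presheaf.stalk y) ^ k) ∧
      (maximalIdeal (X.presheaf.stalk y) ^ k).comap (g.stalkMap y).hom ≤
        maximalIdeal (X.presheaf.stalk (g y)) ^ k := by
  haveI : IsLocallyNoetherian X := LocallyOfFiniteType.isLocallyNoetherian t
  match k with
  | 0 => exact ⟨fun s => ⟨0, by simp⟩, by simp⟩
  | k + 1 =>
  set m := maximalIdeal (X.presheaf.stalk (g y)) with hm
  set n := maximalIdeal (X.presheaf.stalk y) with hn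
  let A := X.presheaf.stalk (g y) ⧸ m ^ (k + 1)
  have hne : m ^ (k + 1) ≠ ⊤ := fun h => (maximalIdeal.isMaximal _).ne_top
    (top_le_iff.1 (h ▸ Ideal.pow_le_self (Nat.succ_ne_zero k)))
  haveI : Nontrivial A := Ideal.Quotient.nontrivial_iff.2 hne
  haveI : IsLocalRing A := IsLocalRing.of_surjective' (Ideal.Quotient.mk (m ^ (k + 1)))
    Ideal.Quotient.mk_surjective
  haveI : Finite (X.presheaf.stalk (g y) ⧸ m) := ZetaLib.finite_residueField t hy
  haveI : Finite A := Ideal.finite_quotient_pow (IsNoetherian.noetherian m) (k + 1)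
  let π : X.presheaf.stalk (g y) ⟶ CommRingCat.of A := CommRingCat.ofHom (Ideal.Quotient.mk (m ^ (k + 1)))
  haveI : IsLocalHom π.hom := IsLocalHom.of_surjective _ Ideal.Quotient.mk_surjective
  obtain ⟨Q, hQ⟩ := exists_lift t g (CommRingCat.of A) (Spec.map π ≫ X.fromSpecStalk (g y))
  have hQy : Q (closedPoint A) = y := by
    apply injective_base g
    rw [← Scheme.Hom.comp_apply, hQ, Scheme.Hom.comp_apply, Spec_closedPoint]
    exact Scheme.fromSpecStalk_closedPoint
  obtain ⟨φ, hφ, hφQ⟩ := exists_local_hom Q hQy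
  have hcomp : g.stalkMap y ≫ φ = π := by
    refine Spec.map_injective ((cancel_mono (X.fromSpecStalk (g y))).1 ?_)
    rw [Spec.map_comp, Category.assoc, Scheme.SpecMap_stalkMap_fromSpecStalk, reassoc_of% hφQ, hQ]
  have hcomp' : ∀ r, φ.hom ((g.stalkMap y).hom r) = Ideal.Quotient.mk (m ^ (k + 1)) r := fun r =>
    RingHom.congr_fun (congrArg CommRingCat.Hom.hom hcomp) r
  have hker : n ^ (k + 1) ≤ RingHom.ker φ.hom := by
    intro a ha
    have h1 : n.map φ.hom ≤ maximalIdeal A :=
      Ideal.map_le_iff_le_comap.2 fun b hb => map_nonunit φ.hom b hb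
    have h2 : maximalIdeal A ≤ m.map (Ideal.Quotient.mk (m ^ (k + 1))) := by
      intro b hb
      obtain ⟨b, rfl⟩ := Ideal.Quotient.mk_surjective b
      refine Ideal.mem_map_of_mem _ ?_
      intro hu
      exact hb (hu.map _)
    have h3 := Ideal.mem_map_of_mem φ.hom ha
    rw [Ideal.map_pow] at h3
    have h4 := Ideal.pow_right_mono (h1.trans h2) (k + 1) h3
    rw [← Ideal.map_pow, Ideal.map_quotient_self] at h4
    exact RingHom.mem_ker.2 (Ideal.mem_bot.1 h4)
  have hle : (n ^ (k + 1)).comap (g.stalkMap y).hom ≤ m ^ (k + 1) := fun r hr => by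
    have := RingHom.mem_ker.1 (hker hr)
    rw [hcomp'] at this
    exact Ideal.Quotient.eq_zero_iff_mem.1 this
  refine ⟨fun s => ?_, hle⟩
  let B := X.presheaf.stalk y ⧸ n ^ (k + 1)
  have hmn : m ^ (k + 1) ≤ (n ^ (k + 1)).comap (g.stalkMap y).hom := fun a ha => by
    have h1 : m.map (g.stalkMap y).hom ≤ n :=
      Ideal.map_le_iff_le_comap.2 fun b hb => map_nonunit (g.stalkMap y).hom b hb
    have h2 := Ideal.mem_map_of_mem (g.stalkMap y).hom ha
    rw [Ideal.map_pow] at h2
    exact Ideal.pow_right_mono h1 _ h2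
  let gk : CommRingCat.of A ⟶ CommRingCat.of B :=
    CommRingCat.ofHom (Ideal.quotientMap (n ^ (k + 1)) (g.stalkMap y).hom hmn)
  let proj : X.presheaf.stalk y ⟶ CommRingCat.of B := CommRingCat.ofHom (Ideal.Quotient.mk (n ^ (k + 1)))
  have hgk : π ≫ gk = g.stalkMap y ≫ proj := CommRingCat.hom_ext (RingHom.ext fun r => rfl)
  have heq : φ ≫ gk = proj := by
    refine Spec.map_injective ((cancel_mono (X.fromSpecStalk y)).1 ((cancel_mono g).1 ?_))
    simp only [Category.assoc, ← Scheme.SpecMap_stalkMap_fromSpecStalk, ← Spec.map_comp_assoc]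
    rw [← Category.assoc, hcomp, hgk]
  obtain ⟨r, hr⟩ := Ideal.Quotient.mk_surjective (φ.hom s)
  refine ⟨r, Ideal.Quotient.eq.1 ?_⟩
  have h5 : gk.hom (φ.hom s) = Ideal.Quotient.mk (n ^ (k + 1)) s :=
    RingHom.congr_fun (congrArg CommRingCat.Hom.hom heq) s
  rw [← h5, ← hr]
  rfl

include t in
theorem flat_stalkMap_of_isClosed (y : X) (hy : IsClosed ({y} : Set X)) :
    (g.stalkMap y).hom.Flat := by
  haveI : IsLocallyNoetherian X := LocallyOfFiniteType.isLocallyNoetherian t
  haveI : JacobsonSpace X := LocallyOfFiniteType.jacobsonSpace t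
  haveI : LocallyOfFiniteType (g ≫ t) :=
    specULiftZIsTerminal.hom_ext t (g ≫ t) ▸ ‹LocallyOfFiniteType t›
  haveI : LocallyOfFiniteType g := locallyOfFiniteType_of_comp g t
  have hgy : IsClosed ({g y} : Set X) :=
    g.closePoints_subset_preimage_closedPoints hy
  exact flat_of_bijective_quotient_pow _ (fun k => (bijective_quotient_pow t g y hgy k).1)
    (fun k => (bijective_quotient_pow t g y hgy k).2)

include t in
theorem flat : Flat g := by
  haveI : JacobsonSpace X := LocallyOfFiniteType.jacobsonSpace t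
  haveI : CompactSpace X := QuasiCompact.compactSpace_of_compactSpace t
  refine Flat.of_stalkMap _ fun x => ?_
  obtain ⟨y, hy, hyc⟩ := nonempty_inter_closedPoints (Z := closure ({x} : Set X))
    ⟨x, subset_closure rfl⟩ isClosed_closure.isLocallyClosed
  have hxy : x ⤳ y := specializes_iff_mem_closure.2 hy
  obtain ⟨p, rfl⟩ : x ∈ Set.range (X.fromSpecStalk y) := by
    rw [Scheme.range_fromSpecStalk]; exact hxy
  haveI : Flat (X.fromSpecStalk y) := flat_fromSpecStalk y
  haveI : Flat (X.fromSpecStalk (g y)) := flat_fromSpecStalk (g y)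
  haveI : Flat (Spec.map (g.stalkMap y)) := Flat.SpecMap_iff.2 (flat_stalkMap_of_isClosed t g y hyc)
  haveI : Flat (X.fromSpecStalk y ≫ g) := by
    rw [← Scheme.SpecMap_stalkMap_fromSpecStalk]; infer_instance
  have h := Flat.stalkMap (X.fromSpecStalk y ≫ g) p
  rw [Scheme.Hom.stalkMap_comp] at h
  refine (RingHom.Flat.comp_iff_of_bijective_left (g := ((X.fromSpecStalk y).stalkMap p).hom) ?_).1 h
  refine ⟨?_, (X.fromSpecStalk y).stalkMap_surjective p⟩
  have hfl := Flat.stalkMap (X.fromSpecStalk y) p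
  algebraize [((X.fromSpecStalk y).stalkMap p).hom]
  haveI : Module.Flat (X.presheaf.stalk (X.fromSpecStalk y p)) ((Spec (X.presheaf.stalk y)).presheaf.stalk p) := hfl
  haveI : IsLocalHom (algebraMap (X.presheaf.stalk (X.fromSpecStalk y p)) ((Spec (X.presheaf.stalk y)).presheaf.stalk p)) :=
    inferInstanceAs (IsLocalHom ((X.fromSpecStalk y).stalkMap p).hom)
  haveI := Module.FaithfullyFlat.of_flat_of_isLocalHom (A := X.presheaf.stalk (X.fromSpecStalk y p))
    (B := (Spec (X.presheaf.stalk y)).presheaf.stalk p)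
  exact FaithfulSMul.algebraMap_injective (X.presheaf.stalk (X.fromSpecStalk y p))
    ((Spec (X.presheaf.stalk y)).presheaf.stalk p)

include t in
/-- **EGA IV 17.9.6 over `ℤ`.** -/
theorem isIso_of_finiteType_int : IsIso g := by
  haveI : IsLocallyNoetherian X := LocallyOfFiniteType.isLocallyNoetherian t
  haveI : JacobsonSpace X := LocallyOfFiniteType.jacobsonSpace t
  haveI : CompactSpace X := QuasiCompact.compactSpace_of_compactSpace t
  haveI : LocallyOfFiniteType (g ≫ t) :=
    specULiftZIsTerminal.hom_ext t (g ≫ t) ▸ ‹LocallyOfFiniteType t›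
  haveI : LocallyOfFiniteType g := locallyOfFiniteType_of_comp g t
  haveI := flat t g
  haveI : LocallyOfFinitePresentation g := inferInstance
  haveI : IsOpenImmersion g := IsOpenImmersion.of_flat_of_mono g
  refine (isIso_iff_isOpenImmersion_and_surjective g).2 ⟨inferInstance, ⟨?_⟩⟩
  rw [← Set.range_eq_univ, ← Set.compl_empty_iff]
  by_contra hne
  obtain ⟨x, hx, hxc⟩ := nonempty_inter_closedPoints (Set.nonempty_iff_ne_empty.2 hne)
    g.isOpenEmbedding.isOpen_range.isClosed_compl.isLocallyClosed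
  haveI : Finite (X.residueField x) := ZetaLib.finite_residueField t hxc
  obtain ⟨Q, hQ⟩ := exists_lift t g (X.residueField x) (X.fromSpecResidueField x)
  exact hx ⟨Q (closedPoint _), by rw [← Scheme.Hom.comp_apply, hQ, Scheme.fromSpecResidueField_apply]⟩

end Groth.Agent.MonoEndo
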