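import Groth.Agent.S2732
import Mathlib

/-! Monomorphic endomorphisms of `T × X` over `T`. -/

set_option autoImplicit false
set_option linter.style.haveILetI false
universe u

open CategoryTheory Limits MonoidalCategory CartesianMonoidalCategory AlgebraicGeometry

namespace Groth.Agent.MonoEndo

variable {S : Scheme.{u}} {T X : Over S} [LocallyOfFinitePresentation X.hom] [QuasiCompact X.hom]
  [QuasiSeparated X.hom]

/-- If a morphism `T × X → X` is injective on points in the second variable then, paired with the
projection to `T`, it is an automorphism of `T × X`. -/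
theorem isIso_lift (a : T ⊗ X ⟶ X)
    (ha : ∀ (Z : Over S) (t : Z ⟶ T), Function.Injective fun x : Z ⟶ X => lift t x ≫ a) :
    IsIso (lift (fst T X) a) := by
  set φ := lift (fst T X) a with hφ
  haveI : Mono φ := ⟨fun {Z} p q h => by
    have h1 := congrArg (· ≫ fst T X) h
    simp only [φ, Category.assoc, lift_fst] at h1
    have h2 := congrArg (· ≫ snd T X) h
    simp only [φ, Category.assoc, lift_snd] at h2
    refine CartesianMonoidalCategory.hom_ext _ _ h1 (ha Z (p ≫ fst T X) ?_)
    have ep : lift (p ≫ fst T X) (p ≫ snd T X) = p := by simp [← comp_lift]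
    have eq : lift (p ≫ fst T X) (q ≫ snd T X) = q := by rw [h1]; simp [← comp_lift]
    simp only [ep, eq]
    exact h2⟩
  let f : (T ⊗ X).left ⟶ T.left := (fst T X).left
  haveI : LocallyOfFinitePresentation f := MorphismProperty.pullback_fst T.hom X.hom ‹_›
  haveI : QuasiCompact f := MorphismProperty.pullback_fst T.hom X.hom ‹_›
  haveI : QuasiSeparated f := MorphismProperty.pullback_fst T.hom X.hom ‹_›
  haveI : IsIso φ.left := Groth.Agent.S2732.result f φ.left (by rw [← Over.comp_left, lift_fst])
  haveI : IsIso ((Over.forget S).map φ) := ‹IsIso φ.left›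
  exact isIso_of_reflects_iso φ (Over.forget S)

/-- Points surjectivity following from point injectivity. -/
theorem bijective_lift (a : T ⊗ X ⟶ X)
    (ha : ∀ (Z : Over S) (t : Z ⟶ T), Function.Injective fun x : Z ⟶ X => lift t x ≫ a)
    (Z : Over S) (t : Z ⟶ T) : Function.Bijective fun x : Z ⟶ X => lift t x ≫ a := by
  refine ⟨ha Z t, fun y => ?_⟩
  haveI := isIso_lift a ha
  let p := lift t y ≫ inv (lift (fst T X) a)
  have hp : p ≫ lift (fst T X) a = lift t y := by
    simp only [p, Category.assoc, IsIso.inv_hom_id, Category.comp_id]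
  have h1 : p ≫ fst T X = t := by
    have := congrArg (· ≫ fst T X) hp
    simpa only [Category.assoc, lift_fst] using this
  refine ⟨p ≫ snd T X, ?_⟩
  have h2 := congrArg (· ≫ snd T X) hp
  simp only [Category.assoc, lift_snd] at h2
  show lift t (p ≫ snd T X) ≫ a = y
  have h3 : lift t (p ≫ snd T X) = p := by
    apply CartesianMonoidalCategory.hom_ext <;> simp [h1]
  rw [h3, h2]

end Groth.Agent.MonoEndo
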